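import Cfsg.Agent.H773.MaxFinal
import Cfsg.Agent.H756.HM.Stmts

/-!
# S5175, q = 2: active four-groups in groups of maximal class (helper767)
-/

set_option autoImplicit false

namespace Cfsg.Agent.H767.HM

open Cfsg Cfsg.FusionSystem Subgroup
open Cfsg.Agent.H802 Cfsg.Agent.H773 Cfsg.Agent.H773.IsMax Cfsg.Agent.H781

section grp

variable {T : Type*} [Group T] {x : T} {N : ℕ}

/-- the centralizer in `⟨x⟩` of an element outside -/
theorem comm_in (h : IsMax x N) {g y : T} (hg : g ∉ zpowers x) (hy : y ∈ zpowers x) (hc : g * y = y * g) :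
    y = 1 ∨ y = zz x N := by
  obtain ⟨j, rfl⟩ := mem_zpowers_iff.1 hy
  apply h.eq_of_mul_self hy
  obtain ⟨e, he⟩ := h.conj g hg
  have h1 := conj_zpow' he j
  rw [hc, mul_inv_cancel_right] at h1
  have h2 : x ^ ((4 * e - 1) * j - j) = 1 := by rw [zpow_sub, ← h1, mul_inv_cancel]
  rw [← orderOf_dvd_iff_zpow_eq_one, h.ord] at h2
  rw [← zpow_add, ← orderOf_dvd_iff_zpow_eq_one, h.ord]
  have h3 : (4 * e - 1) * j - j = (j + j) * (2 * e - 1) := by ring
  rw [h3] at h2
  have hcop : IsCoprime ((2 ^ N : ℕ) : ℤ) (2 * e - 1) := by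
    push_cast
    apply IsCoprime.pow_left
    exact ⟨e, -1, by ring⟩
  exact hcop.dvd_of_dvd_mul_right h2

/-- a four-group is self-centralizing, and contains `g ∉ ⟨x⟩`, `g² = 1` -/
theorem four_data [Finite T] (h : IsMax x N) {V : Subgroup T} (hc : Nat.card V = 4) (hV : ∀ v ∈ V, v ^ 2 = 1) :
    centralizer (V : Set T) ≤ V ∧ ∃ g ∈ V, g ∉ zpowers x ∧ g * g = 1 := by
  have hV' : ∀ v ∈ V, v * v = 1 := fun v hv => by rw [← pow_two]; exact hV v hv
  obtain ⟨g, hg, hgx⟩ : ∃ g ∈ V, g ∉ zpowers x := by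
    by_contra! hall
    have h1 : (V : Set T) ⊆ {1, zz x N} := by
      intro v hv
      rcases h.eq_of_mul_self (hall v hv) (hV' v hv) with h1 | h1
      · exact Or.inl h1
      · exact Or.inr h1
    have h2 := Set.ncard_le_ncard h1 (Set.toFinite _)
    have h3 : ({1, zz x N} : Set T).ncard ≤ 2 := Set.ncard_insert_le _ _ |>.trans (by simp)
    have h4 : (V : Set T).ncard = Nat.card V := rfl
    omega
  refine ⟨?_, g, hg, hgx, hV' g hg⟩
  have hcomm : ∀ v ∈ V, g * v = v * g := by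
    intro v hv
    have h1 := hV' _ (V.mul_mem hg hv)
    have h2 : (g * v)⁻¹ = g * v := inv_eq_of_mul_eq_one_left h1
    rw [← h2, mul_inv_rev, inv_eq_of_mul_eq_one_left (hV' g hg), inv_eq_of_mul_eq_one_left (hV' v hv)]
  have hVC : V ≤ centralizer ({g} : Set T) := by
    intro v hv
    rw [mem_centralizer_singleton_iff]
    exact (hcomm v hv).symm
  have hgC : g ∈ centralizer ({g} : Set T) := hVC hg
  have h3 := h.card_eq_two_mul hgC hgx
  have h4 : Nat.card (centralizer ({g} : Set T) ⊓ zpowers x : Subgroup T) ≤ 2 := by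
    have h1 : ((centralizer ({g} : Set T) ⊓ zpowers x : Subgroup T) : Set T) ⊆ {1, zz x N} := by
      rintro v ⟨hv, hvx⟩
      rcases comm_in h hgx hvx (mem_centralizer_singleton_iff.1 hv).symm with h1 | h1
      · exact Or.inl h1
      · exact Or.inr h1
    have h2 := Set.ncard_le_ncard h1 (Set.toFinite _)
    have h3 : ({1, zz x N} : Set T).ncard ≤ 2 := Set.ncard_insert_le _ _ |>.trans (by simp)
    exact h2.trans h3
  have h5 : V = centralizer ({g} : Set T) := Subgroup.eq_of_le_of_card_ge hVC (by omega)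
  intro y hy
  rw [h5, mem_centralizer_singleton_iff]
  exact ((mem_centralizer_iff.1 hy) g hg).symm

end grp

variable {Ω : Type*} [Group Ω] {S : Subgroup Ω} {F : FusionSystem S} {x : S} {N : ℕ}

theorem not_two_of_three {V : Subgroup Ω} (hα : ∃ α ∈ F.autGroup V, orderOf α = 3) : ¬ IsPGroup 2 (F.autGroup V) := by
  obtain ⟨α, hα, h3⟩ := hα
  intro h
  obtain ⟨k, hk⟩ := h ⟨α, hα⟩
  have h1 : α ^ 2 ^ k = 1 := congrArg Subtype.val hk
  rw [← orderOf_dvd_iff_pow_eq_one, h3] at h1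
  have h4 := (Nat.Prime.dvd_of_dvd_pow Nat.prime_three h1)
  omega

/-- a four-group with an automorphism of order three -/
theorem act_of_four [Finite S] (h : IsMax x N) {V : Subgroup Ω} (hVS : V ≤ S) (hc : Nat.card V = 4)
    (hV : ∀ v ∈ V, v ^ 2 = 1) (hα : ∃ α ∈ F.autGroup V, orderOf α = 3) :
    ∃ g : S, g ∉ zpowers x ∧ g * g = 1 ∧ Act F g := by
  obtain ⟨h1, g, hg, hgx, hgg⟩ := four_data h (V := V.subgroupOf S)
    (by rw [Nat.card_congr (subgroupOfEquivOfLe hVS).toEquiv, hc])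
    (fun v hv => Subtype.ext (hV v hv))
  refine ⟨g, hgx, hgg, V, ⟨hVS, ?_, not_two_of_three hα⟩, hg⟩
  rintro y ⟨hy, hyV⟩
  have h2 : (⟨y, hy⟩ : S) ∈ V.subgroupOf S := h1 (by
    rw [mem_centralizer_iff]
    intro v hv
    exact Subtype.ext ((mem_centralizer_iff.1 hyV) v hv))
  exact h2

end Cfsg.Agent.H767.HM
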