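import Cfsg.Agent.H767.HM.Models
import Cfsg.Agent.H767.HM.Act

/-!
# S5175, q = 2: dihedral and quasi-dihedral groups (helper767)
-/

set_option autoImplicit false
set_option linter.unusedSectionVars false

universe u v

namespace Cfsg.Agent.H767.HM

open Cfsg Cfsg.FusionSystem Subgroup
open Cfsg.Agent.H802 Cfsg.Agent.H773 Cfsg.Agent.H773.IsMax Cfsg.Agent.H781 Cfsg.Agent.H773.SemiLin Cfsg.Agent.H773.ModelTwo
open Cfsg.Agent.H756.HM

/-- `PGL₂(p)` with dihedral Sylow 2-subgroups of order `2 ^ (N + 1) ≥ 8`. -/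
theorem model_pgl {N : ℕ} (hN : 2 ≤ N) : ∃ (K : Type) (_ : Field K) (_ : Fintype K) (x : MulAut (SL2 K)),
    Odd (Fintype.card K) ∧
    (∀ T : Sylow 2 (ext x), Nonempty ((T : Subgroup (ext x)) ≃* DihedralGroup (2 ^ N))) ∧
    (∃ M : Subgroup (ext x), M.Normal ∧ M.index = 2 ∧ NonNil (ext x)) ∧
    Nonempty (ext x ≃* (GL (Fin 2) K ⧸ center (GL (Fin 2) K))) := by
  obtain ⟨p, hp, hp3, hp4, h1, h2⟩ := exists_prime_one hN
  have : Fact p.Prime := ⟨hp⟩
  have hcard : Fintype.card (ZMod p) = p := ZMod.card p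
  have hodd : Odd (Fintype.card (ZMod p)) := by rw [hcard, Nat.odd_iff]; omega
  obtain ⟨ζ, hζ⟩ := exists_unit_of_order (K := ZMod p) (n := 2 ^ N) (by
    rw [hcard, ← h1]; exact Nat.ordProj_dvd _ _)
  obtain ⟨hx, M, hM⟩ := dihedral_x hN hodd (by rw [hcard]; exact hp3)
    (by rw [hcard]; exact h1) (by rw [hcard]; exact h2) ζ hζ _ rfl
  exact ⟨ZMod p, inferInstance, inferInstance, _, hodd, hx, ⟨M, hM⟩,
    pgl_equiv (sq_cases (by omega) hζ (by rw [hcard]; exact h1))⟩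

/-- `PSL₂(p²).2` with semidihedral Sylow 2-subgroups of order `2 ^ (n + 1) ≥ 16`. -/
theorem model_sd {n : ℕ} (hn : 3 ≤ n) : ∃ (K : Type) (_ : Field K) (_ : Fintype K) (x : MulAut (SL2 K)) (p : ℕ),
    Odd p ∧ Fintype.card K = p ^ 2 ∧ 3 < Fintype.card K ∧
    (∀ T : Sylow 2 (ext x), Cfsg.IsQuasiDihedral (T : Subgroup (ext x)) ∧
      Nat.card (T : Subgroup (ext x)) = 2 ^ (n + 1)) ∧
      ((inn K).subgroupOf (ext x)).Normal ∧ ((inn K).subgroupOf (ext x)).index = 2 ∧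
      ∃ V : Subgroup (ext x), V ≤ (inn K).subgroupOf (ext x) ∧ IsKleinFour V ∧ NonNil (ext x) := by
  obtain ⟨p, hp, hp3, hp4, h1, h2⟩ := exists_prime_one (a := n - 1) (by omega)
  have : Fact p.Prime := ⟨hp⟩
  let K := GaloisField p 2
  have : Fintype K := Fintype.ofFinite K
  have hcard : Fintype.card K = p ^ 2 := by
    rw [← Nat.card_eq_fintype_card]
    exact GaloisField.card p 2 (by norm_num)
  have hodd : Odd (Fintype.card K) := by
    rw [hcard]
    exact (Nat.odd_iff.2 (by omega)).pow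
  have h3 : 3 < Fintype.card K := by
    rw [hcard]
    nlinarith
  have hf1 : (Fintype.card K - 1).factorization 2 = n := by
    rw [hcard, fact_sq_sub_one (by omega) h1 h2]
    omega
  have hf2 : (Fintype.card K + 1).factorization 2 = 1 := by
    obtain ⟨m, hm⟩ : ∃ m, p = 4 * m + 1 := ⟨p / 4, by omega⟩
    apply two_fact_of_eq (k := 4 * m ^ 2 + 2 * m)
    rw [hcard, hm]
    ring
  obtain ⟨ζ, hζ⟩ := exists_unit_of_order (K := K) (n := 2 ^ n) (by
    rw [← hf1]; exact Nat.ordProj_dvd _ _)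
  let φ : K ≃+* K := frobeniusEquiv K p
  have hφa : ∀ a : K, φ a = a ^ p := fun a => rfl
  have hφ : ∀ a : K, φ (φ a) = a := by
    intro a
    rw [hφa, hφa, ← pow_mul, ← pow_two, ← hcard]
    exact FiniteField.pow_card a
  have hd : 2 ^ (n - 1) ∣ p - 1 := by rw [← h1]; exact Nat.ordProj_dvd _ _
  have hnd : ¬ 2 ^ n ∣ p - 1 := by
    intro h
    have := (Nat.Prime.pow_dvd_iff_le_factorization Nat.prime_two (by omega)).1 h
    omega
  have hu1 : ζ ^ (p - 1) ≠ 1 := by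
    intro h
    apply hnd
    rw [← hζ]
    exact orderOf_dvd_of_pow_eq_one h
  have hu2 : (ζ ^ (p - 1)) ^ 2 = 1 := by
    rw [← pow_mul, ← orderOf_dvd_iff_pow_eq_one, hζ]
    have : 2 ^ n = 2 ^ (n - 1) * 2 := by
      rw [← pow_succ]
      congr 1
      omega
    rw [this]
    exact Nat.mul_dvd_mul_right hd 2
  have hφζ : φ ζ = -(ζ : K) := by
    have h6 : ((ζ ^ (p - 1) : Kˣ) : K) ^ 2 = 1 ^ 2 := by
      rw [← Units.val_pow_eq_pow_val, hu2, Units.val_one, one_pow]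
    rcases eq_or_eq_neg_of_sq_eq_sq _ 1 h6 with h7 | h7
    · exact absurd (Units.ext (h7.trans Units.val_one.symm)) hu1
    · rw [hφa]
      have : (ζ : K) ^ p = (ζ : K) ^ (p - 1) * ζ := by
        rw [← pow_succ]
        congr 1
        omega
      rw [this, ← Units.val_pow_eq_pow_val, h7]
      ring
  obtain ⟨hx, hM, hMi, V, hV⟩ := semidihedral_x hn hodd h3 hf1 hf2 ζ hζ φ hφ hφζ _ rfl
  exact ⟨K, inferInstance, inferInstance, _, p, Nat.odd_iff.2 (by omega), hcard, h3, hx, hM, hMi, V, hV⟩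

/-- `PSL₃(3)` -/
theorem model_psl33 : (∀ T : Sylow 2 (Matrix.ProjectiveSpecialLinearGroup (Fin 3) (ZMod 3)),
      Cfsg.IsQuasiDihedral (T : Subgroup (Matrix.ProjectiveSpecialLinearGroup (Fin 3) (ZMod 3))) ∧
      Nat.card (T : Subgroup (Matrix.ProjectiveSpecialLinearGroup (Fin 3) (ZMod 3))) = 2 ^ (3 + 1)) ∧
    ∀ M : Subgroup (Matrix.ProjectiveSpecialLinearGroup (Fin 3) (ZMod 3)), M.Normal → M.index ≠ 2 := by
  have : Fact (Nat.Prime 3) := ⟨Nat.prime_three⟩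
  have hcard : Fintype.card (ZMod 3) = 3 := ZMod.card 3
  refine ⟨fun T => ⟨ModelThree.qd (by rw [hcard]) T, ?_⟩, fun M hM => ?_⟩
  · rw [ModelThree.card_sylow (by rw [hcard]; decide) T, hcard]
    have h8 : (3 ^ 2 - 1).factorization 2 = 3 := two_fact_of_eq (k := 0) (by norm_num)
    have h2 : (3 - 1).factorization 2 = 1 := two_fact_of_eq (k := 0) (by norm_num)
    rw [h8, h2]
  · exact no_index_two_quot (Cfsg.Agent.S0248.result 3 le_rfl) _ M hM

/-- **StDih** -/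
theorem stDih : StDih.{u} := by
  intro Ω _ S _ hS F hF m hm he V hVS hVc hV hα
  obtain ⟨e⟩ := he
  have : Fact (Nat.Prime 2) := ⟨Nat.prime_two⟩
  obtain ⟨k, hk⟩ := IsPGroup.iff_card.mp hS
  have hc : 2 ^ k = 2 * m := by rw [← hk, Nat.card_congr e.toEquiv, DihedralGroup.nat_card]
  obtain ⟨N, rfl⟩ : ∃ N, m = 2 ^ N := by
    rcases k with _ | k
    · rw [pow_zero] at hc; omega
    · exact ⟨k, by rw [pow_succ'] at hc; omega⟩
  have hN : 2 ≤ N := by
    by_contra hlt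
    have h1 : N ≤ 1 := by omega
    have h2 : 2 ^ N ≤ 2 ^ 1 := Nat.pow_le_pow_right (by norm_num) h1
    omega
  have : NeZero (2 ^ N) := ⟨by positivity⟩
  have hSA : IsPGroup 2 (MulAut S) :=
    (Cfsg.Agent.S3116.isPGroup_dihedral N hN).of_equiv (MulAut.congr e).symm
  set x : S := e.symm (.r 1) with hx
  have h : IsMax x N := (isMax_dihedralGroup hN).map e.symm
  have hdih : ∀ g ∉ zpowers x, g * g = 1 ∧ g * x * g⁻¹ = x⁻¹ := by
    intro g hg
    obtain ⟨g, rfl⟩ := e.symm.surjective g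
    rw [hx, mem_zpowers_map] at hg
    obtain ⟨h1, h2⟩ := dihedralGroup_out hg
    refine ⟨by rw [← map_mul, h1, map_one], ?_⟩
    rw [hx, ← map_inv, ← map_inv, ← map_mul, ← map_mul, h2]
  obtain ⟨g, hg, -, hact⟩ := act_of_four h hVS hVc hV hα
  by_cases h2 : Act F (x * g)
  · obtain ⟨K, _, _, hK, hT, hM⟩ := model_dihedral_both hN
    obtain ⟨T⟩ : Nonempty (Sylow 2 (Matrix.ProjectiveSpecialLinearGroup (Fin 2) K)) := inferInstance
    obtain ⟨e'⟩ := hT T
    have hr : RealizedIn F (Matrix.ProjectiveSpecialLinearGroup (Fin 2) K) :=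
      realize_both hS h hSA hF T (e.trans e'.symm) hM (by
        intro t ht
        rcases h.coset_cases hg ht with h5 | h5
        · exact hact.of_coset h hg h5
        · exact h2.of_coset h (mul_notMem hg (mem_zpowers x)) h5)
    obtain ⟨G, _, _, ι, h6, h7, h8⟩ := exists_of_realizedIn hr
    exact ⟨G, inferInstance, inferInstance, ι, h6, h7, Or.inl ⟨⟨_, hm, ⟨e⟩⟩, K, inferInstance, inferInstance,
      Nat.odd_iff.2 (by omega), Or.inl h8⟩⟩
  · obtain ⟨K, _, _, y, hK, hT, ⟨M, hM, hMi, hG⟩, ⟨e2⟩⟩ := model_pgl hN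
    obtain ⟨T⟩ : Nonempty (Sylow 2 (ext y)) := inferInstance
    obtain ⟨e'⟩ := hT T
    have hr : RealizedIn F (ext y) :=
      realize_one_dihedral hS h hdih hSA hF hg hact h2 T (e.trans e'.symm) hM hMi hG
    obtain ⟨G, _, _, ι, h6, h7, ⟨e8⟩⟩ := exists_of_realizedIn hr
    exact ⟨G, inferInstance, inferInstance, ι, h6, h7, Or.inl ⟨⟨_, hm, ⟨e⟩⟩, K, inferInstance, inferInstance,
      hK, Or.inr ⟨e8.trans e2⟩⟩⟩

end Cfsg.Agent.H767.HM
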